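import Groth.Agent.EtUnitLib.ConstVal
import Groth.Agent.NonAb.EtaleGroup

/-!
# When is `M → g_* g^{-1} M` an isomorphism?
-/

set_option autoImplicit false
set_option backward.isDefEq.respectTransparency.types false
set_option backward.isDefEq.respectTransparency false
set_option linter.all false

universe u

open CategoryTheory CategoryTheory.Limits AlgebraicGeometry Opposite TopologicalSpace
open Groth.Agent.Et18

namespace Groth.Agent.EtUnitLib

variable {X Y : Scheme.{u}} (g : Y ⟶ X) (A : AddCommGrpCat.{u + 1})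

/-- The map `A_X → g_* A_Y`. -/
noncomputable def constPush : (cst X).obj A ⟶ (EtCoh.push g).obj ((cst Y).obj A) :=
  (EtCoh.pullPushAdj g).homEquiv _ _ ((EtCore.pullConstIso g).hom.app A)

lemma constPush_top :
    cstSec A (EtCoh.top X) ≫ (constPush g A).hom.app (op (EtCoh.top X)) =
      cstSec A ((EtCoh.bc g).obj (EtCoh.top X)) := by
  let adj1 := ((EtCore.constAdj X).comp (EtCoh.pullPushAdj g)).ofNatIsoRight (EtCore.pushGsecIso g)
  have h := Adjunction.unit_leftAdjointUniq_hom_app adj1 (EtCore.constAdj Y) A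
  have h1 : adj1.unit.app A = (((EtCore.constAdj X).unit.app A) ≫
      (EtCore.gsec X).map ((EtCoh.pullPushAdj g).unit.app ((cst X).obj A))) ≫
        (EtCore.pushGsecIso g).hom.app ((EtCoh.pull g).obj ((cst X).obj A)) :=
    congrArg (· ≫ _) (Adjunction.comp_unit_app (EtCore.constAdj X) (EtCoh.pullPushAdj g) A)
  rw [h1, Category.assoc, Category.assoc, ← (EtCore.pushGsecIso g).hom.naturality] at h
  rw [constantSheafAdj_unit_top, constantSheafAdj_unit_top] at h
  have h2 : (cstSec A (EtCoh.top X) ≫ (constPush g A).hom.app (op (EtCoh.top X))) ≫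
      ((cst Y).obj A).obj.map (EtCore.bcTopIso g).inv.op = cstSec A (EtCoh.top Y) := by
    refine Eq.trans ?_ h
    rw [show constPush g A = (EtCoh.pullPushAdj g).unit.app ((cst X).obj A) ≫
      (EtCoh.push g).map ((EtCore.pullConstIso g).hom.app A) from Adjunction.homEquiv_unit _ _ _ _]
    simp only [Category.assoc]
    rfl
  rw [← cancel_mono (((cst Y).obj A).obj.map (EtCore.bcTopIso g).inv.op)]
  exact h2.trans (cstSec_res A (EtCore.bcTopIso g).inv).symm

lemma constPush_cstSec (V : X.Etale) (a : A) :
    (constPush g A).hom.app (op V) (cstSec A V a) = cstSec A ((EtCoh.bc g).obj V) a := by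
  let t : V ⟶ EtCoh.top X := (EtCore.topIsTerminal X).from V
  rw [← map_cstSec t a]
  refine (NatTrans.naturality_apply (constPush g A).hom t.op _).trans ?_
  refine (congrArg _ (ConcreteCategory.congr_hom (constPush_top g A) a)).trans ?_
  exact map_cstSec ((EtCoh.bc g).map t) a

/-- Projection of the base change. -/
noncomputable def pr (V : X.Etale) : ((EtCoh.bc g).obj V).left ⟶ V.left := pullback.fst V.hom g

variable {A}

lemma val_constPush (V : X.Etale) (s : EtCoh.sect ((cst X).obj A) V)
    (y : ((EtCoh.bc g).obj V).left) :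
    val (U := (EtCoh.bc g).obj V) ((constPush g A).hom.app (op V) s) y = val s (pr g V y) := by
  obtain ⟨W, h, w, hw, hs⟩ := hasVal_val s (pr g V y)
  have sq := EtCoh.isPullback_bc_map g h
  obtain ⟨z, hz1, -⟩ := Scheme.Pullback.exists_preimage_pullback (f := pr g V) (g := h.left) y w hw.symm
  refine HasVal.val_eq ⟨(EtCoh.bc g).obj W, (EtCoh.bc g).map h, sq.isoPullback.inv z, ?_, ?_⟩
  · rw [← hz1, ← Scheme.Hom.comp_apply, IsPullback.isoPullback_inv_fst]
    rfl
  · refine ((NatTrans.naturality_apply (constPush g A).hom h.op s).symm).trans ?_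
    rw [hs]
    exact constPush_cstSec g A W _

theorem isIso_constPush_of_bijective
    (hinj : ∀ (V : X.Etale) (f f' : V.left → A), IsLocallyConstant f → IsLocallyConstant f' →
      (∀ y, f (pr g V y) = f' (pr g V y)) → f = f')
    (hsurj : ∀ (V : X.Etale) (h : ((EtCoh.bc g).obj V).left → A), IsLocallyConstant h →
      ∃ f : V.left → A, IsLocallyConstant f ∧ ∀ y, f (pr g V y) = h y) :
    IsIso (constPush g A) := by
  have : ∀ V : (X.Etale)ᵒᵖ, IsIso ((constPush g A).hom.app V) := by
    rintro ⟨V⟩
    rw [ConcreteCategory.isIso_iff_bijective]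
    constructor
    · intro s t h
      refine ext_val fun y => congrFun (hinj V (val s) (val t) (isLocallyConstant_val s)
        (isLocallyConstant_val t) fun z => ?_) y
      rw [← val_constPush, ← val_constPush, h]
    · intro σ
      obtain ⟨f, hf, hfσ⟩ := hsurj V (val (U := (EtCoh.bc g).obj V) σ) (isLocallyConstant_val _)
      obtain ⟨s, hs⟩ := exists_val_eq hf
      refine ⟨s, ext_val (U := (EtCoh.bc g).obj V) fun y => ?_⟩
      rw [val_constPush, hs, hfσ]
  have : IsIso ((sheafToPresheaf _ _).map (constPush g A)) := by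
    have h' : ∀ V : (X.Etale)ᵒᵖ, IsIso (((sheafToPresheaf _ _).map (constPush g A)).app V) := this
    exact NatIso.isIso_of_isIso_app _
  exact isIso_of_reflects_iso _ (sheafToPresheaf _ _)

theorem isIso_unit_of_isIso_constPush [IsIso (constPush g A)] :
    IsIso ((EtCoh.pullPushAdj g).unit.app ((cst X).obj A)) := by
  have h : (EtCoh.pullPushAdj g).unit.app ((cst X).obj A) ≫
      (EtCoh.push g).map ((EtCore.pullConstIso g).hom.app A) = constPush g A :=
    (Adjunction.homEquiv_unit _ _ _ _).symm
  exact IsIso.of_isIso_fac_right h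

/-- Preimmersions into an integral normal scheme hitting the generic point. -/
theorem isIso_unit_of_normal [IsIntegral X] (hN : Pi1.IsNormalScheme X) [IsPreimmersion g]
    (hη : genericPoint X ∈ Set.range g) :
    IsIso ((EtCoh.pullPushAdj g).unit.app ((cst X).obj A)) := by
  suffices IsIso (constPush g A) from isIso_unit_of_isIso_constPush g
  have hgen : ∀ (V : X.Etale) (v : V.left), ∃ a : V.left, V.hom a = genericPoint X ∧ a ⤳ v ∧
      IsOpen (closure ({a} : Set V.left)) := by
    intro V v
    have : Etale V.hom := V.prop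
    obtain ⟨a, hav, ha⟩ := Flat.generalizingMap V.hom (genericPoint_specializes (show X from V.hom v))
    exact ⟨a, ha, hav, NonAbLib.isClosed_closure_open (S := X) V.hom hN a ha⟩
  choose gen hgen₁ hgen₂ hgen₃ using hgen
  have hpre : ∀ (V : X.Etale) (v : V.left), ∃ y, pr g V y = gen V v := by
    intro V v
    obtain ⟨x, hx⟩ := hη
    obtain ⟨z, hz, -⟩ := Scheme.Pullback.exists_preimage_pullback (f := V.hom) (g := g) (gen V v) x
      ((hgen₁ V v).trans hx.symm)
    exact ⟨z, hz⟩
  choose lift hlift using hpre
  refine isIso_constPush_of_bijective g (fun V f f' hf hf' h => funext fun v => ?_) (fun V h hh => ?_)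
  · obtain ⟨O, hO, hvO, hO'⟩ := (IsLocallyConstant.iff_exists_open f).mp hf v
    obtain ⟨O₁, hO₁, hvO₁, hO₁'⟩ := (IsLocallyConstant.iff_exists_open f').mp hf' v
    rw [← hO' _ ((hgen₂ V v).mem_open hO hvO), ← hO₁' _ ((hgen₂ V v).mem_open hO₁ hvO₁),
      ← hlift V v, h]
  · have : Etale V.hom := V.prop
    have := Groth.Agent.FlatMorWeight.locallyQuasiFinite_of_etale V.hom
    have hdisc : ∀ a b : V.left, V.hom a = genericPoint X → V.hom b = genericPoint X → a ⤳ b → a = b := by
      intro a b ha hb hab
      have := isDiscrete_iff_discreteTopology.mp (V.hom.isDiscrete_preimage_singleton (genericPoint X))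
      exact congrArg Subtype.val (((subtype_specializes_iff
        (x := (⟨a, ha⟩ : V.hom ⁻¹' {genericPoint X})) (y := ⟨b, hb⟩)).mpr hab).eq)
    have huniq : ∀ (v b : V.left), V.hom b = genericPoint X → b ⤳ v → gen V v = b := fun v b hb hbv =>
      hdisc _ _ (hgen₁ V v) hb (specializes_iff_mem_closure.mpr
        (hbv.mem_open (hgen₃ V v) (specializes_iff_mem_closure.mp (hgen₂ V v))))
    have : IsPreimmersion (pr g V) :=
      MorphismProperty.pullback_fst (P := @IsPreimmersion) V.hom g inferInstance
    have hrefl : ∀ a b : ((EtCoh.bc g).obj V).left, pr g V a ⤳ pr g V b → a ⤳ b := fun a b hab =>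
      (pr g V).isEmbedding.isInducing.specializes_iff.mp hab
    refine ⟨fun v => h (lift V v), ?_, fun y => ?_⟩
    · refine (IsLocallyConstant.iff_exists_open _).mpr fun v =>
        ⟨closure {gen V v}, hgen₃ V v, specializes_iff_mem_closure.mp (hgen₂ V v), fun w hw => ?_⟩
      have he : gen V w = gen V v := huniq w _ (hgen₁ V v) (specializes_iff_mem_closure.mpr hw)
      have : lift V w = lift V v := (pr g V).isEmbedding.injective (by rw [hlift, hlift, he])
      rw [this]
    · obtain ⟨O, hO, hyO, hO'⟩ := (IsLocallyConstant.iff_exists_open h).mp hh y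
      refine hO' _ ((hrefl _ _ ?_).mem_open hO hyO)
      rw [hlift]
      exact hgen₂ V _

end Groth.Agent.EtUnitLib
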