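import Groth.Agent.Et18.ConstNhd
import Groth.Agent.Et18.PropAFaithful
import Groth.Prelude.Def_EtCore

/-!
# Sections of constant sheaves are locally constant functions
-/

set_option autoImplicit false
set_option backward.isDefEq.respectTransparency.types false
set_option backward.isDefEq.respectTransparency false
set_option linter.all false

universe u

open CategoryTheory CategoryTheory.Limits AlgebraicGeometry Opposite TopologicalSpace
open Groth.Agent.Et18

namespace Groth.Agent.EtUnitLib

variable {X : Scheme.{u}} {A : AddCommGrpCat.{u + 1}}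

/-- `s` equals `a` on an etale neighbourhood of `y`. -/
def HasVal {U : X.Etale} (s : EtCoh.sect ((cst X).obj A) U) (y : U.left) (a : A) : Prop :=
  ∃ (W : X.Etale) (g : W ⟶ U) (w : W.left), g.left w = y ∧
    ((cst X).obj A).obj.map g.op s = cstSec A W a

lemma map_cstSec {U W : X.Etale} (g : W ⟶ U) (a : A) :
    ((cst X).obj A).obj.map g.op (cstSec A U a) = cstSec A W a :=
  ConcreteCategory.congr_hom (cstSec_res A g) a

lemma hasVal_cstSec (U : X.Etale) (a : A) (y : U.left) : HasVal (cstSec A U a) y a :=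
  ⟨U, 𝟙 U, y, rfl, map_cstSec _ a⟩

theorem exists_hasVal {U : X.Etale} (s : EtCoh.sect ((cst X).obj A) U) (y : U.left) :
    ∃ a, HasVal s y a := by
  have h := Presheaf.imageSieve_mem X.smallEtaleTopology
    (toSheafify X.smallEtaleTopology ((Functor.const X.Etaleᵒᵖ).obj A)) s
  have h' : _ ∈ (X.smallPretopology (P := EtCoh.etaleMP) (Q := EtCoh.etaleMP)).toGrothendieck U :=
    (show X.smallEtaleTopology =
      (X.smallPretopology (P := EtCoh.etaleMP) (Q := EtCoh.etaleMP)).toGrothendieck from
    Scheme.smallGrothendieckTopology_eq_toGrothendieck_smallPretopology X le_rfl).le U h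
  obtain ⟨W, g, w, ⟨a, ha⟩, -, hw⟩ := (Scheme.mem_toGrothendieck_smallPretopology _ _).1 h' y
  exact ⟨a, W, g, w, hw, ha.symm⟩

theorem HasVal.unique {U : X.Etale} {s : EtCoh.sect ((cst X).obj A) U} {y : U.left} {a b : A}
    (ha : HasVal s y a) (hb : HasVal s y b) : a = b := by
  let η := sepPoint U.left y
  let ξ := η ≫ U.hom
  let v : (Scheme.pointSmallEtale ξ).fiber.obj U := Over.homMk η rfl
  have key : ∀ c, HasVal s y c →
      cstGerm ξ A c = (Scheme.pointSmallEtale ξ).toPresheafFiber U v ((cst X).obj A).obj s := by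
    rintro c ⟨W, g, w, hw, hc⟩
    have := etale_map_left g
    obtain ⟨l, hl, -⟩ := Scheme.exists_fac_of_etale_of_isSepClosed g.left η w
      (hw.trans (sepPoint_default U.left y).symm)
    let lv : (Scheme.pointSmallEtale ξ).fiber.obj W := Over.homMk l (by
      show l ≫ W.hom = η ≫ U.hom
      rw [← hl, Category.assoc, MorphismProperty.Over.w g])
    have hlv : (Scheme.pointSmallEtale ξ).fiber.map g lv = v := Over.OverMorphism.ext hl
    rw [← hlv, ← (Scheme.pointSmallEtale ξ).toPresheafFiber_w_apply g lv ((cst X).obj A).obj s, hc]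
    exact (ConcreteCategory.congr_hom (cstSec_germ ξ A W lv) c).symm
  exact (cstGerm_bijective ξ A).1 ((key a ha).trans (key b hb).symm)

theorem HasVal.res {U V : X.Etale} (h : V ⟶ U) {s : EtCoh.sect ((cst X).obj A) U} {v : V.left} {a : A}
    (ha : HasVal s (h.left v) a) : HasVal (((cst X).obj A).obj.map h.op s) v a := by
  obtain ⟨b, W, g, w, hw, hb⟩ := exists_hasVal (((cst X).obj A).obj.map h.op s) v
  have : HasVal s (h.left v) b := ⟨W, g ≫ h, w, by
    exact congrArg h.left hw, by
    rw [op_comp, Functor.map_comp, ConcreteCategory.comp_apply, hb]⟩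
  obtain rfl := this.unique ha
  exact ⟨W, g, w, hw, hb⟩

/-- Values are locally constant. -/
theorem HasVal.eventually {U : X.Etale} {s : EtCoh.sect ((cst X).obj A) U} {y : U.left} {a : A}
    (ha : HasVal s y a) : ∃ O : Set U.left, IsOpen O ∧ y ∈ O ∧ ∀ z ∈ O, HasVal s z a := by
  obtain ⟨W, g, w, hw, hb⟩ := ha
  have := etale_map_left g
  refine ⟨Set.range g.left, g.left.isOpenMap.isOpen_range, ⟨w, hw⟩, ?_⟩
  rintro _ ⟨w', rfl⟩
  exact ⟨W, g, w', rfl, hb⟩

/-- The value function. -/
noncomputable def val {U : X.Etale} (s : EtCoh.sect ((cst X).obj A) U) (y : U.left) : A :=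
  (exists_hasVal s y).choose

lemma hasVal_val {U : X.Etale} (s : EtCoh.sect ((cst X).obj A) U) (y : U.left) : HasVal s y (val s y) :=
  (exists_hasVal s y).choose_spec

lemma HasVal.val_eq {U : X.Etale} {s : EtCoh.sect ((cst X).obj A) U} {y : U.left} {a : A}
    (ha : HasVal s y a) : val s y = a :=
  (hasVal_val s y).unique ha

lemma val_map {U V : X.Etale} (h : V ⟶ U) (s : EtCoh.sect ((cst X).obj A) U) (v : V.left) :
    val (((cst X).obj A).obj.map h.op s) v = val s (h.left v) :=
  ((hasVal_val s (h.left v)).res h).val_eq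

lemma val_cstSec (U : X.Etale) (a : A) (y : U.left) : val (cstSec A U a) y = a :=
  (hasVal_cstSec U a y).val_eq

lemma isLocallyConstant_val {U : X.Etale} (s : EtCoh.sect ((cst X).obj A) U) :
    IsLocallyConstant (val s) := by
  refine (IsLocallyConstant.iff_exists_open _).mpr fun y => ?_
  obtain ⟨O, hO, hy, h⟩ := (hasVal_val s y).eventually
  exact ⟨O, hO, hy, fun z hz => (h z hz).val_eq⟩

theorem ext_val {U : X.Etale} {s t : EtCoh.sect ((cst X).obj A) U} (h : ∀ y, val s y = val t y) :
    s = t := by
  have hsheaf : Presieve.IsSheaf X.smallEtaleTopology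
      (((cst X).obj A).obj ⋙ forget AddCommGrpCat.{u + 1}) :=
    (CategoryTheory.isSheaf_iff_isSheaf_of_type _ _).1
      ((sheafCompose X.smallEtaleTopology (forget AddCommGrpCat.{u + 1})).obj ((cst X).obj A)).property
  have hS : Presheaf.equalizerSieve (F := ((cst X).obj A).obj) s t ∈ X.smallEtaleTopology U := by
    refine mem_smallEtaleTopology_of_points _ fun y => ?_
    obtain ⟨W, g, w, hw, hs⟩ := hasVal_val s y
    obtain ⟨W', g', w', hw', ht⟩ :=
      hasVal_val (((cst X).obj A).obj.map g.op t) w
    refine ⟨W', g' ≫ g, w', ?_, etale_map_left _, ?_⟩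
    · show ((cst X).obj A).obj.map (g' ≫ g).op s = ((cst X).obj A).obj.map (g' ≫ g).op t
      rw [op_comp, Functor.map_comp, ConcreteCategory.comp_apply, ConcreteCategory.comp_apply, hs, ht,
        map_cstSec, val_map, hw, ← h y]
    · rw [← hw, ← hw']; rfl
  exact (hsheaf.isSeparated _ hS).ext fun Z f hf => hf

theorem exists_val_eq {U : X.Etale} {f : U.left → A} (hf : IsLocallyConstant f) :
    ∃ s : EtCoh.sect ((cst X).obj A) U, ∀ y, val s y = f y := by
  let O : U.left → U.left.Opens := fun y => ⟨f ⁻¹' {f y}, hf.isOpen_fiber _⟩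
  let W : U.left → X.Etale := fun y => MorphismProperty.Over.mk ⊤ ((O y).ι ≫ U.hom) inferInstance
  let a : ∀ y, W y ⟶ U := fun y => MorphismProperty.Over.homMk (O y).ι rfl trivial
  have hsheaf : Presieve.IsSheaf X.smallEtaleTopology
      (((cst X).obj A).obj ⋙ forget AddCommGrpCat.{u + 1}) :=
    (CategoryTheory.isSheaf_iff_isSheaf_of_type _ _).1
      ((sheafCompose X.smallEtaleTopology (forget AddCommGrpCat.{u + 1})).obj ((cst X).obj A)).property
  have hmem : Sieve.ofArrows W a ∈ X.smallEtaleTopology U :=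
    mem_smallEtaleTopology_of_points _ fun y => ⟨W y, a y, ⟨y, rfl⟩, Sieve.ofArrows_mk W a y,
      etale_map_left (a y), rfl⟩
  have hfor : (Presieve.ofArrows W a).IsSheafFor (((cst X).obj A).obj ⋙ forget _) := by
    rw [Presieve.isSheafFor_iff_generate]
    exact hsheaf _ hmem
  obtain ⟨s, hs, -⟩ := (Presieve.isSheafFor_arrows_iff _ _).mp hfor (fun y => cstSec A (W y) (f y))
    (fun y z R gy gz hyz => by
      show ((cst X).obj A).obj.map gy.op _ = ((cst X).obj A).obj.map gz.op _
      rw [map_cstSec, map_cstSec]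
      refine ext_val fun r => ?_
      rw [val_cstSec, val_cstSec]
      have h1 : f ((a y).left (gy.left r)) = f y := (gy.left r).2
      have h2 : f ((a z).left (gz.left r)) = f z := (gz.left r).2
      have h3 : (a y).left (gy.left r) = (a z).left (gz.left r) :=
        congrArg (fun k => k.left r) hyz
      rw [← h1, h3, h2])
  refine ⟨s, fun y => ?_⟩
  have := val_map (a y) s ⟨y, rfl⟩
  rw [show ((cst X).obj A).obj.map (a y).op s = cstSec A (W y) (f y) from hs y, val_cstSec] at this
  exact this.symm

end Groth.Agent.EtUnitLib
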