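import Groth.Agent.Et18.FinitePush
import Groth.Agent.SiteCoh.Derived
import Groth.Agent.EtUnitLib.ConstUnit
import Mathlib.AlgebraicGeometry.Sites.EtalePoint

/-!
# Direct images from the spectrum of a separably closed field are exact
-/

set_option autoImplicit false
set_option linter.all false
set_option backward.isDefEq.respectTransparency.types false
set_option backward.isDefEq.respectTransparency false

universe u

open CategoryTheory CategoryTheory.Limits AlgebraicGeometry Opposite

namespace Groth.Agent.EtUnitLib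

theorem propB_of_sepClosed {k : Type u} [Field k] [IsSepClosed k] {Y : Scheme.{u}}
    (f : Spec (CommRingCat.of k) ⟶ Y) : BigSite.PropB f := by
  intro V v _ ι U g hg hcov
  refine ⟨PUnit.{u + 1}, fun _ => V, fun _ => 𝟙 V, fun _ => inferInstance,
    fun y => ⟨PUnit.unit, y, rfl⟩, fun _ => ?_⟩
  let P := pullback f (𝟙 V ≫ v)
  let p : P ⟶ Spec (CommRingCat.of k) := pullback.fst f (𝟙 V ≫ v)
  haveI : Etale p := MorphismProperty.pullback_fst _ _ (MorphismProperty.comp_mem _ _ _ inferInstance inferInstance)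
  have hl : ∀ x : P, ∃ l : Spec (CommRingCat.of k) ⟶ P, l ≫ p = 𝟙 _ ∧ l default = x := fun x => by
    have e : p x = (𝟙 (Spec (CommRingCat.of k)) : _ ⟶ _) default :=
      Subsingleton.elim (α := PrimeSpectrum k) _ _
    exact Scheme.exists_fac_of_etale_of_isSepClosed p (𝟙 _) x e
  choose l hl hlx using hl
  haveI : ∀ x, IsOpenImmersion (l x) := fun x => by
    haveI : IsSplitMono (l x) := ⟨⟨⟨p, hl x⟩⟩⟩
    haveI : Etale (l x ≫ p) := by rw [hl x]; infer_instance
    haveI : Etale (l x) := MorphismProperty.of_postcomp (W := @Etale) (W' := @Etale) _ p inferInstance inferInstance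
    exact IsOpenImmersion.of_flat_of_mono (l x)
  refine ⟨P, fun x => (l x).opensRange, fun a b hab => ?_, ?_, fun x => ?_⟩
  · refine disjoint_iff.mpr (eq_bot_iff.mpr ?_)
    rintro z ⟨⟨s, hs⟩, ⟨t, ht⟩⟩
    refine (hab ?_).elim
    rw [← hlx a, ← hlx b]
    have hs' : s = (default : Spec (CommRingCat.of k)) := Subsingleton.elim (α := PrimeSpectrum k) _ _
    have ht' : t = (default : Spec (CommRingCat.of k)) := Subsingleton.elim (α := PrimeSpectrum k) _ _
    rw [← hs', hs, ← ht, ht']
    exact congrArg (l b) hs'.symm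
  · refine top_le_iff.mp fun x _ => TopologicalSpace.Opens.mem_iSup.mpr ⟨x, default, hlx x⟩
  · let m := pullback.map f (𝟙 V ≫ v) f v (𝟙 _) (𝟙 V) (𝟙 Y) (by simp) (by simp)
    obtain ⟨i, w, hw⟩ := hcov ((l x ≫ m) default)
    haveI := hg i
    obtain ⟨l', hl', -⟩ := Scheme.exists_fac_of_etale_of_isSepClosed (g i) (l x ≫ m) w hw
    refine ⟨i, (l x).isoOpensRange.inv ≫ l', ?_⟩
    rw [Category.assoc, hl', ← Category.assoc, Scheme.Hom.isoOpensRange_inv_comp]

theorem preservesHomology_push_sepClosed {k : Type u} [Field k] [IsSepClosed k] {Y : Scheme.{u}}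
    (f : Spec (CommRingCat.of k) ⟶ Y) : (EtCoh.push f).PreservesHomology :=
  haveI := Et18.push_preservesEpimorphisms_of_propB f (propB_of_sepClosed f)
  haveI : (EtCoh.push f).IsRightAdjoint := ⟨_, ⟨EtCoh.pullPushAdj f⟩⟩
  Functor.preservesHomology_of_preservesEpis_and_kernels _

theorem isZero_Rpush_const {X Y : Scheme.{u}} (f : X ⟶ Y) [IsIntegral X]
    (hN : ∀ x : X, IsIntegrallyClosed (X.presheaf.stalk x)) [IsSepClosed X.functionField]
    (A : AddCommGrpCat.{u + 1}) (n : ℕ) :
    IsZero ((EtCoh.Rpush f (n + 1)).obj ((Et18.cst X).obj A)) := by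
  let g : Spec (X.presheaf.stalk (genericPoint X)) ⟶ X := X.fromSpecStalk (genericPoint X)
  haveI : IsSepClosed (X.presheaf.stalk (genericPoint X)) := ‹IsSepClosed X.functionField›
  haveI : (EtCoh.push g).PreservesHomology :=
    preservesHomology_push_sepClosed (k := X.functionField) g
  haveI : (EtCoh.push (g ≫ f)).PreservesHomology :=
    preservesHomology_push_sepClosed (k := X.functionField) (g ≫ f)
  haveI : PreservesFiniteLimits (EtCoh.push g) := Functor.preservesFiniteLimits_of_preservesHomology _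
  haveI : PreservesFiniteColimits (EtCoh.push g) := Functor.preservesFiniteColimits_of_preservesHomology _
  haveI : (EtCoh.push g).PreservesInjectiveObjects :=
    Functor.preservesInjectiveObjects_of_adjunction_of_preservesMonomorphisms (EtCoh.pullPushAdj g)
  have hη : genericPoint X ∈ Set.range g := by
    rw [Scheme.range_fromSpecStalk]; exact specializes_rfl
  haveI := isIso_unit_of_normal (A := A) g (fun x => ⟨inferInstance, hN x⟩) hη
  refine IsZero.of_iso ?_ ((EtCoh.Rpush f (n + 1)).mapIso
    (asIso ((EtCoh.pullPushAdj g).unit.app ((Et18.cst X).obj A))))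
  refine IsZero.of_iso (Et18.isZero_rightDerived_of_preservesHomology (EtCoh.push (g ≫ f)) n
    ((EtCoh.pull g).obj ((Et18.cst X).obj A))) ?_
  exact ((SiteCoh.rightDerivedExactCompIso (EtCoh.push g) (EtCoh.push f) (n + 1)).symm ≪≫
    SiteCoh.rightDerivedCongr (EtCoh.pushComp f g) (n + 1)).app _

end Groth.Agent.EtUnitLib
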